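import Cfsg.Agent.H542.Pi.G2PolFin
import Cfsg.Agent.H245.DG.GTwoAut
import Cfsg.Agent.H249.Pi.FldType

/-!
# The automorphisms of prime order of `G₂(q)` (helper542, S4324)

`cases_aut` : `x` of prime order is inner, or 6 conjugates of `x` generate the inner automorphisms, or `x` is a polarity.
-/

set_option autoImplicit false

namespace Cfsg.Agent.H542.Pi.G2P

open scoped Pointwise
open Cfsg Cfsg.Lie Cfsg.Lie.ChevalleyDatum Cfsg.Agent.ChevalleyStructure.Elts Cfsg.Agent.H216.Pi
open Cfsg.Agent.H70.ChevFix Cfsg.Agent.H70.ChevField Cfsg.Agent.H70.OutCount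
open Cfsg.Agent.H69.OutGF (flip2)
open Cfsg.Agent.H490.G2 (IsField)

variable {F : Type} [Field F]

theorem isDiagonalAut_one : chevG2.IsDiagonalAut (1 : MulAut (K F)) := by
  refine ⟨fun _ => 1, ⟨fun r _ => by rw [inv_one], fun r s k _ _ _ => by rw [one_mul]⟩, fun g => ?_⟩
  have h1 : chevG2.charDiag F (fun _ => (1 : Fˣ)) = 1 := by
    unfold ChevalleyDatum.charDiag
    rw [← Matrix.diagonal_one]
    congr 1
    funext i
    rcases i with i | i
    · rfl
    · simp
  have h2 : (fun r : ℕ => ((fun _ => (1 : Fˣ)) r)⁻¹) = fun _ => (1 : Fˣ) := by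
    funext r
    exact inv_one
  rw [h2, h1, one_mul, mul_one]
  rfl

theorem isFieldAut {α : MulAut (K F)} {τ : F ≃+* F} (h : IsField α τ) : chevG2.IsFieldAut α := by
  refine ⟨τ, fun g r t hr hg => ?_⟩
  have h1 : g = xe hD r t := by
    apply Subtype.ext
    apply Units.ext
    rw [hg]
    exact (coe_xG hD r t).symm
  rw [h1, h r hr t]
  exact coe_xG hD r (τ t)

theorem field_eq_one {α : MulAut (K F)} (h : IsField α 1) : α = 1 := by
  refine Cfsg.Agent.H245.DG.G2.ext4 ?_ ?_ ?_ ?_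
  · exact fun t => h 7 (by norm_num) t
  · exact fun t => h 6 (by norm_num) t
  · exact fun t => h 4 (by norm_num) t
  · exact fun t => h 5 (by norm_num) t

theorem field_ne_one {α : MulAut (K F)} {τ : F ≃+* F} (h : IsField α τ) (hτ : τ ≠ 1) : α ≠ 1 := by
  rintro rfl
  apply hτ
  ext t
  have h1 := h 7 (by norm_num) t
  exact (xe_inj hD (show 7 < chevG2.nroots by decide +kernel) h1).symm

/-- **The automorphisms of prime order.** -/
theorem cases_aut [Finite F] {x : MulAut (K F)} (hx : (orderOf x).Prime) :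
    (∃ g, x = MulAut.conj g) ∨ (∀ z, H216.Pi.InC 6 x (MulAut.conj z)) ∨ Ty chevG2 F x flip2 := by
  obtain ⟨g0, π, -, -, h1, h2⟩ := exists_conj_perm (F := F) hD x
  have hφ : Perm chevG2 F (MulAut.conj g0 * x) π := ⟨h1, h2⟩
  rcases Cfsg.Agent.H245.DG.G2.perm_cases π with rfl | rfl
  · obtain ⟨g, τ, α, hα, h⟩ := Cfsg.Agent.H245.DG.G2.of_perm_one hφ
    have hxe : x = MulAut.conj (g0⁻¹ * g) * α := by
      rw [map_mul, map_inv, mul_assoc, ← h, inv_mul_cancel_left]
    by_cases hτ : τ = 1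
    · subst hτ
      rw [field_eq_one hα, mul_one] at hxe
      exact Or.inl ⟨_, hxe⟩
    · right
      left
      intro z
      refine Cfsg.Agent.H249.Pi.FldType.inC_of_field (D := chevG2) (by simp [Cfsg.Agent.H249.Pi.FldType.Ex5]) hx
        (pow_orderOf_eq_one x) isDiagonalAut_one (isFieldAut hα) (field_ne_one hα hτ) (y := g0⁻¹ * g) (fun a => ?_) z
      rw [hxe]
      rfl
  · right
    right
    exact ⟨g0⁻¹, MulAut.conj g0 * x, by rw [map_inv, inv_mul_cancel_left], hφ⟩

end Cfsg.Agent.H542.Pi.G2P
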