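import Cfsg.Agent.H542.Pi.Reg
import Cfsg.Agent.H955.Pi.Gow
import Cfsg.Agent.H459.RgdRad

/-!
# Automorphisms normalising a Borel subgroup and moving a torus element by a regular element (helper542, S4324)

`K` with a root group datum `R` over `F` (torus `T`, `U` = product of the positive root groups, `B = T U`),
`x = conj g * β` with `g ∈ B` and `β` normalising `T`.

* `exists_conj` : `t U` is the `U`-class of `t`, `t` without fixed points on `U`;
* `inC_regular` : `a (β a)⁻¹` regular for some `a ∈ T` ⇒ two conjugates of `x` contain a regular semisimple element;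
* `false_of_torus` : hence `FC s m x` is false for `m ≥ 4`, `s ≠ p`.
-/

set_option autoImplicit false
set_option linter.unusedSectionVars false

namespace Cfsg.Agent.H542.Pi

open CoxeterSystem Cfsg.Agent.ChevalleyStructure.CoxeterGeom Cfsg.Agent.Tits.Roots Cfsg.Agent.Tits.Core
  Cfsg.Agent.Nodes Cfsg.Agent.Nodes.Reps Cfsg.Agent.Nodes.BNOf Cfsg.Agent.Nodes.NormalForm
  Cfsg.Agent.Nodes.Bruhat Cfsg.Agent.KFacts.RgdField Cfsg.Agent.BpExc.TorCent

universe u

/-- `t U` is the `U`-class of `t` -/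
theorem exists_conj {K : Type*} [Group K] [Finite K] {U : Subgroup K} {t : K} (ht : ∀ u ∈ U, t⁻¹ * u * t ∈ U)
    (hC : ∀ u ∈ U, u * t = t * u → u = 1) {u₀ : K} (hu : u₀ ∈ U) : ∃ u ∈ U, t * u₀ = u * t * u⁻¹ := by
  let f : U → U := fun u => ⟨t⁻¹ * u * t * (u : K)⁻¹, mul_mem (ht u u.2) (inv_mem u.2)⟩
  have hf : Function.Injective f := by
    intro u v huv
    have h1 : t⁻¹ * u * t * (u : K)⁻¹ = t⁻¹ * v * t * (v : K)⁻¹ := congrArg Subtype.val huv
    have h2 : (u : K) * t * (u : K)⁻¹ = v * t * (v : K)⁻¹ := by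
      have h3 := congrArg (fun z => t * z) h1
      simpa [mul_assoc] using h3
    have h3 : ((v : K)⁻¹ * u) * t = t * ((v : K)⁻¹ * u) := by
      have h4 : (v : K)⁻¹ * ((u : K) * t * (u : K)⁻¹) * u = (v : K)⁻¹ * (v * t * (v : K)⁻¹) * u := by rw [h2]
      have h5 : (v : K)⁻¹ * ((u : K) * t * (u : K)⁻¹) * u = ((v : K)⁻¹ * u) * t := by group
      have h6 : (v : K)⁻¹ * (v * t * (v : K)⁻¹) * u = t * ((v : K)⁻¹ * u) := by group
      rw [← h5, h4, h6]
    have h4 := hC _ (mul_mem (inv_mem v.2) u.2) h3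
    exact (Subtype.ext (inv_mul_eq_one.1 h4)).symm
  obtain ⟨u, hu'⟩ := Finite.surjective_of_injective hf ⟨u₀, hu⟩
  have h1 : t⁻¹ * u * t * (u : K)⁻¹ = u₀ := congrArg Subtype.val hu'
  refine ⟨u, u.2, ?_⟩
  rw [← h1]
  group

theorem card_centralizer_conj {K : Type*} [Group K] [Finite K] (t u : K) :
    Nat.card (Subgroup.centralizer ({u * t * u⁻¹} : Set K)) = Nat.card (Subgroup.centralizer ({t} : Set K)) := by
  have h1 : Subgroup.centralizer ({u * t * u⁻¹} : Set K) =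
      (Subgroup.centralizer ({t} : Set K)).map (MulAut.conj u).toMonoidHom := by
    ext y
    rw [Subgroup.mem_centralizer_singleton_iff]
    constructor
    · intro h
      refine ⟨u⁻¹ * y * u, ?_, ?_⟩
      · show u⁻¹ * y * u ∈ Subgroup.centralizer ({t} : Set K)
        rw [Subgroup.mem_centralizer_singleton_iff]
        have h2 : u⁻¹ * (y * (u * t * u⁻¹)) * u = u⁻¹ * (u * t * u⁻¹ * y) * u := by rw [h]
        have h3 : u⁻¹ * (y * (u * t * u⁻¹)) * u = u⁻¹ * y * u * t := by group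
        have h4 : u⁻¹ * (u * t * u⁻¹ * y) * u = t * (u⁻¹ * y * u) := by group
        rw [← h3, h2, h4]
      · show u * (u⁻¹ * y * u) * u⁻¹ = y
        group
    · rintro ⟨z, hz, rfl⟩
      have hz' : z * t = t * z := Subgroup.mem_centralizer_singleton_iff.1 hz
      show u * z * u⁻¹ * (u * t * u⁻¹) = u * t * u⁻¹ * (u * z * u⁻¹)
      have h3 : u * z * u⁻¹ * (u * t * u⁻¹) = u * (z * t) * u⁻¹ := by group
      have h4 : u * t * u⁻¹ * (u * z * u⁻¹) = u * (t * z) * u⁻¹ := by group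
      rw [h3, h4, hz']
  rw [h1, Subgroup.card_map_of_injective (MulAut.conj u).injective]

variable {I W : Type*} [Fintype I] [DecidableEq I] [Group W] {M : CoxeterMatrix I}
  {cs : CoxeterSystem M W} {A : I → I → ℤ} {h : IsCartan M A} {p : ℕ} {K : Type u} [Group K] {T : Subgroup K}
  {n : I → K} {X : (I → ℤ) → Subgroup K} {F : Type*} [Field F] {xx : (I → ℤ) → F → K} {χ : (I → ℤ) → K → F}

/-- **Two conjugates of `x` contain a regular semisimple element.** -/
theorem inC_regular [Finite W] [Finite K] (hp : p.Prime) [CharP F p] (R : RGD cs h p T n X)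
    (C : Coords cs h T n X xx χ) (hTc : ∀ s ∈ T, ∀ t ∈ T, s * t = t * s) (hA : ChAdd cs h T χ)
    (hG : GG cs h T X = ⊤) {x β : MulAut K} {g : K} (hg : g ∈ RGD.B cs h T X) (hx : x = MulAut.conj g * β)
    (hβ : ∀ t ∈ T, β t ∈ T) {a : K} (ha : a ∈ T) (hreg : Sx cs h χ (a * (β a)⁻¹) = ∅) :
    ∃ z : K, H216.Pi.InC 2 x (MulAut.conj z) ∧ ¬ p ∣ Nat.card (Subgroup.centralizer ({z} : Set K)) := by
  have : Fact p.Prime := ⟨hp⟩
  set U := RGD.Sup X (RGD.Pos cs h) with hU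
  have haT : a * (β a)⁻¹ ∈ T := mul_mem ha (inv_mem (hβ a ha))
  have hnd := not_dvd_of_regular hp R C haT hTc hA hreg hG
  set t₀ := a * (β a)⁻¹ with ht₀
  have hTN : ∀ t ∈ T, ∀ u ∈ U, t⁻¹ * u * t ∈ U := by
    intro t ht u hu
    have h1 := (Subgroup.mem_normalizer_iff.1 (inv_mem (R.T_le_normalizer_U ht)) u).1 hu
    rwa [inv_inv] at h1
  have hfree : ∀ u ∈ U, u * t₀ = t₀ * u → u = 1 := by
    intro u hu hc
    by_contra hu1
    obtain ⟨k, hk⟩ := (IsPGroup.iff_orderOf.1 R.isPGroup_Upos) ⟨u, hu⟩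
    rw [Subgroup.orderOf_mk] at hk
    have hk0 : k ≠ 0 := by
      rintro rfl
      rw [pow_zero, orderOf_eq_one_iff] at hk
      exact hu1 hk
    have h1 : p ∣ orderOf u := by rw [hk]; exact dvd_pow_self p hk0
    refine hnd (h1.trans ?_)
    have h2 : u ∈ Subgroup.centralizer ({t₀} : Set K) := Subgroup.mem_centralizer_singleton_iff.2 hc
    exact Subgroup.orderOf_dvd_natCard _ h2
  -- the commutator `[x, a]`
  obtain ⟨t', ht', u', hu', hg'⟩ := R.mem_B.1 hg
  have hxa : a * x a⁻¹ = t₀ * ((β a * g * (β a)⁻¹) * g⁻¹) := by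
    rw [hx, MulAut.mul_apply, MulAut.conj_apply, map_inv, ht₀]
    group
  have hu₀ : (β a * g * (β a)⁻¹) * g⁻¹ ∈ U := by
    have h1 : (β a * g * (β a)⁻¹) * g⁻¹ = t' * (((β a) * u' * (β a)⁻¹) * u'⁻¹) * t'⁻¹ := by
      have h2 : β a * t' = t' * β a := hTc _ (hβ a ha) _ ht'
      have h3 : (β a)⁻¹ * t'⁻¹ = t'⁻¹ * (β a)⁻¹ := hTc _ (inv_mem (hβ a ha)) _ (inv_mem ht')
      calc (β a * g * (β a)⁻¹) * g⁻¹ = (β a * t') * u' * (β a)⁻¹ * (t' * u')⁻¹ := by rw [hg']; group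
        _ = t' * (((β a) * u' * (β a)⁻¹) * u'⁻¹) * t'⁻¹ := by rw [h2]; group
    rw [h1]
    have hm := hTN t'⁻¹ (inv_mem ht') _ (mul_mem (hTN (β a)⁻¹ (inv_mem (hβ a ha)) u' hu') (inv_mem hu'))
    simpa [inv_inv] using hm
  obtain ⟨v, hv, hv'⟩ := exists_conj (hTN t₀ haT) hfree hu₀
  refine ⟨a * x a⁻¹, H216.Pi.InC.commutator x a, ?_⟩
  rw [hxa, hv', card_centralizer_conj]
  exact hnd

/-- **Automorphisms moving an element of the torus by a regular element.** -/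
theorem false_of_torus [Finite W] [Finite K] (hp : p.Prime) [CharP F p] (hL : IsLieTypeChar p K)
    (R : RGD cs h p T n X) (C : Coords cs h T n X xx χ) (hTc : ∀ s ∈ T, ∀ t ∈ T, s * t = t * s)
    (hA : ChAdd cs h T χ) (hG : GG cs h T X = ⊤) {s m : ℕ} (hs : s.Prime) (hsp : s ≠ p) (hsK : s ∣ Nat.card K)
    {x β : MulAut K} {g : K} (hg : g ∈ RGD.B cs h T X) (hx : x = MulAut.conj g * β) (hβ : ∀ t ∈ T, β t ∈ T)
    {a : K} (ha : a ∈ T) (hreg : Sx cs h χ (a * (β a)⁻¹) = ∅) (hm : 4 ≤ m) (hF : H216.Pi.FC s m x) : False := by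
  obtain ⟨z, hz1, hz2⟩ := inC_regular hp R C hTc hA hG hg hx hβ ha hreg
  exact H955.PiG.false_of_regular hp hL hs hsK hz1 hz2 hm (fun h1 => absurd h1 hsp) hF

end Cfsg.Agent.H542.Pi
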