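import Cfsg.Agent.H216.Pi.Lie

/-!
# S4324: transport of `NR`, `CY` along isomorphisms (helper542)

`NR.congr e : NR t K' → NR t K`, `CY.congr e : CY t K' → CY t K` for `e : K ≃* K'`.
-/

set_option autoImplicit false

namespace Cfsg.Agent.H542.Pi

open Subgroup Cfsg.Agent.H216.Pi

variable {K K' : Type*} [Group K] [Group K'] {s : ℕ}

/-- the preimage of a Sylow subgroup -/
theorem exists_sylow (e : K ≃* K') (P : Sylow s K') : ∃ Q : Sylow s K, (Q : Subgroup K) = (P : Subgroup K').comap e.toMonoidHom :=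
  ⟨P.comapOfInjective e.toMonoidHom e.injective (by
    intro x _
    exact ⟨e.symm x, e.apply_symm_apply x⟩), rfl⟩

theorem cyc_iff (e : K ≃* K') {P : Sylow s K'} {Q : Sylow s K}
    (h : (Q : Subgroup K) = (P : Subgroup K').comap e.toMonoidHom) :
    IsCyclic (Q : Subgroup K) ↔ IsCyclic (P : Subgroup K') := by
  rw [h]
  constructor
  · intro h1
    have e1 : ∀ x : (P : Subgroup K'), e.symm (x : K') ∈ (P : Subgroup K').comap e.toMonoidHom := fun x => by
      show e (e.symm (x : K')) ∈ (P : Subgroup K')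
      rw [e.apply_symm_apply]
      exact x.2
    let f : (P : Subgroup K') →* ((P : Subgroup K').comap e.toMonoidHom : Subgroup K) :=
      { toFun := fun x => ⟨e.symm (x : K'), e1 x⟩
        map_one' := Subtype.ext (map_one e.symm)
        map_mul' := fun a b => Subtype.ext (map_mul e.symm (a : K') b) }
    exact isCyclic_of_injective f fun a b hab => Subtype.ext (e.symm.injective (congrArg Subtype.val hab))
  · intro h1
    let f : ((P : Subgroup K').comap e.toMonoidHom : Subgroup K) →* (P : Subgroup K') :=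
      { toFun := fun x => ⟨e (x : K), x.2⟩
        map_one' := Subtype.ext (map_one e)
        map_mul' := fun a b => Subtype.ext (map_mul e (a : K) b) }
    exact isCyclic_of_injective f fun a b hab => Subtype.ext (e.injective (congrArg Subtype.val hab))

theorem cyc_congr (e : K ≃* K') (h : ∀ P : Sylow s K, IsCyclic (P : Subgroup K)) (P : Sylow s K') :
    IsCyclic (P : Subgroup K') := by
  obtain ⟨Q, hQ⟩ := exists_sylow e P
  exact (cyc_iff e hQ).1 (h Q)

theorem NR.congr [Finite K] [Finite K'] {t : ℕ} (e : K ≃* K') (h : NR t K') : NR t K := by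
  intro s r x hs hr hr3 hrs hrK hst hsK hP hx hxs hxr hPC hFC
  have hc := Nat.card_congr e.toEquiv
  refine h s r (Cfsg.Agent.H459.Rad.tr e x) hs hr hr3 hrs (by rwa [← hc]) hst (by rwa [← hc]) (fun P hP' => ?_)
    (by rwa [Cfsg.Agent.H459.Rad.orderOf_tr]) (by rwa [Cfsg.Agent.H459.Rad.orderOf_tr])
    (by rwa [Cfsg.Agent.H459.Rad.orderOf_tr]) (hPC.tr e) (hFC.tr e)
  obtain ⟨Q, hQ⟩ := exists_sylow e P
  exact hP Q ((cyc_iff e hQ).2 hP')

theorem CY.congr [Finite K] [Finite K'] {t : ℕ} (e : K ≃* K') (h : CY t K') : CY t K := by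
  intro s r x hs hr hr3 hrs hrK hst hsK hP hx hxs hxr hPC hFC
  have hc := Nat.card_congr e.toEquiv
  exact h s r (Cfsg.Agent.H459.Rad.tr e x) hs hr hr3 hrs (by rwa [← hc]) hst (by rwa [← hc])
    (cyc_congr e hP) (by rwa [Cfsg.Agent.H459.Rad.orderOf_tr]) (by rwa [Cfsg.Agent.H459.Rad.orderOf_tr])
    (by rwa [Cfsg.Agent.H459.Rad.orderOf_tr]) (hPC.tr e) (hFC.tr e)

end Cfsg.Agent.H542.Pi
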