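import Cfsg.Agent.H542.Pi.CyGD
import Cfsg.Agent.H542.Pi.Trans
import Cfsg.Agent.H737.Pi.TwD4
import Cfsg.Agent.H320.Cyc.Main
import Cfsg.Agent.H809.Pi.Parts
import Cfsg.Agent.S1071

/-!
# S4324: the row of `³D₄(q)` (helper542)

`row_td4` : `NR` (functions of helper737, cyclicity of helper320), `CY` (`cl_d4`).
-/

set_option autoImplicit false

namespace Cfsg.Agent.H542.Pi

open Subgroup Cfsg Cfsg.Lie Cfsg.Agent.H216.Pi Cfsg.Agent.H176.Pi

/-- a prime `s` with `ord_s(q) ∣ n` divides `q ^ n - 1` -/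
theorem dvd_of_ord {q s n : ℕ} (hq : 1 ≤ q) (h : orderOf (q : ZMod s) ∣ n) : s ∣ q ^ n - 1 := by
  have h1 : (q : ZMod s) ^ n = 1 := orderOf_dvd_iff_pow_eq_one.1 h
  rw [← ZMod.natCast_eq_zero_iff, Nat.cast_sub (Nat.one_le_pow _ _ hq), Nat.cast_pow, h1, Nat.cast_one, sub_self]

theorem dl_d4 {F : Type} [Field F] [Fintype F] {t q : ℕ} [CharP F t] (hq : IsPrimePow q)
    (hF : Fintype.card F = q ^ 3) [IsSimpleGroup ↥(twistedD4 F q)] (hK : ¬ IsMulCommutative ↥(twistedD4 F q)) :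
    DL {1, 2, 3, 6} t q ↥(twistedD4 F q) := by
  intro s x hs hs3 hst hsK hord hx hxs hPC hFC
  have h1 : orderOf (q : ZMod s) ∣ 6 := by
    simp only [Finset.mem_insert, Finset.mem_singleton] at hord
    rcases hord with h | h | h | h <;> rw [h] <;> norm_num
  have hfun := H737.Pi.TD4.fun_D4 (t := t) (q := q) (G := ↥(twistedD4 F q)) ⟨F, _, _, ‹CharP F t›, hq, hF, ⟨MulEquiv.refl _⟩⟩
    hs hs3 hst (dvd_of_ord hq.one_lt.le h1)
  exact false_of_fun hK hfun hx (by norm_num) hFC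

theorem row_td4 : H809.Pi.LieRow fun t K => ∃ (F : Type) (_ : Field F) (_ : Fintype F) (_ : CharP F t) (q : ℕ),
    IsPrimePow q ∧ Fintype.card F = q ^ 3 ∧ Nonempty (K ≃* Lie.twistedD4 F q) := by
  refine ⟨?_, ?_⟩
  · rintro t K _ _ _ - ht ⟨F, _, _, _, q, hq, hF, ⟨e⟩⟩
    have htf : Fact t.Prime := ⟨ht⟩
    obtain ⟨hsim, hK⟩ := Cfsg.Agent.S1071.result hq hF
    refine NR.congr e ?_
    refine nr_of (L := {1, 2, 3, 6}) (q := q) ?_ (dl_d4 hq hF hK)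
    intro s hs hs3 hst hsK hord P
    by_contra hP
    exact hord (H320.Cyc.ord_twD4 (t := t) hq hF (MulEquiv.refl _) hs hs3 hst P hP)
  · rintro t K _ _ _ - ht ⟨F, _, _, _, q, hq, hF, ⟨e⟩⟩
    have htf : Fact t.Prime := ⟨ht⟩
    obtain ⟨hsim, hK⟩ := Cfsg.Agent.S1071.result hq hF
    refine CY.congr e ?_
    exact cy_of (dl_d4 hq hF hK) (cl_d4 ht hq hF hK)

end Cfsg.Agent.H542.Pi
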