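import Cfsg.Agent.H542.Pi.CyGD
import Cfsg.Agent.H542.Pi.Trans
import Cfsg.Agent.H737.Pi.G2
import Cfsg.Agent.H542.Pi.RowTwD4
import Cfsg.Agent.H320.Cyc.Main
import Cfsg.Agent.H809.Pi.Parts
import Cfsg.Agent.S1055

/-!
# S4324: the row of `G₂(q)` (helper542)

`row_g2` : `NR` (functions of helper737, cyclicity of helper320), `CY` (`cl_g2`).
-/

set_option autoImplicit false

namespace Cfsg.Agent.H542.Pi

open Subgroup Cfsg Cfsg.Lie Cfsg.Agent.H216.Pi Cfsg.Agent.H176.Pi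

theorem dl_g2 {F : Type} [Field F] [Fintype F] {t : ℕ} [CharP F t]
    (h3 : 3 ≤ Fintype.card F) [IsSimpleGroup ↥(chevG2.group F)] (hK : ¬ IsMulCommutative ↥(chevG2.group F)) :
    DL {1, 2} t (Fintype.card F) ↥(chevG2.group F) := by
  intro s x hs hs3 hst hsK hord hx hxs hPC hFC
  have h1 : orderOf ((Fintype.card F : ℕ) : ZMod s) ∣ 2 := by
    simp only [Finset.mem_insert, Finset.mem_singleton] at hord
    rcases hord with h | h <;> rw [h]
    norm_num
  have hfun := H737.Pi.G2.fun_G2 (t := t) (q := Fintype.card F) (G := ↥(chevG2.group F))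
    ⟨F, _, _, ‹CharP F t›, rfl, ⟨MulEquiv.refl _⟩⟩ hs hs3 hst (dvd_of_ord (by omega) h1)
  exact false_of_fun hK hfun hx (by norm_num) hFC

theorem simple_g2 {F : Type} [Field F] [Fintype F] (h3 : 3 ≤ Fintype.card F) :
    IsSimpleGroup ↥(chevG2.group F) ∧ ¬ IsMulCommutative ↥(chevG2.group F) := by
  classical
  refine Cfsg.Agent.S1055.result ?_
  by_contra hcon
  push Not at hcon
  have h1 : (Finset.univ : Finset F) ⊆ {0, 1} := by
    intro a _
    rw [Finset.mem_insert, Finset.mem_singleton]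
    by_cases ha : a = 0
    · exact Or.inl ha
    · exact Or.inr (hcon a ha)
  have h2 := Finset.card_le_card h1
  rw [Finset.card_univ] at h2
  have h4 := h2.trans Finset.card_le_two
  omega

theorem row_g2 : H809.Pi.LieRow fun t K => ∃ (F : Type) (_ : Field F) (_ : Fintype F) (_ : CharP F t),
    3 ≤ Fintype.card F ∧ Nonempty (K ≃* Lie.chevG2.group F) := by
  refine ⟨?_, ?_⟩
  · rintro t K _ _ _ - ht ⟨F, _, _, _, h3, ⟨e⟩⟩
    have htf : Fact t.Prime := ⟨ht⟩
    obtain ⟨hsim, hK⟩ := simple_g2 h3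
    refine NR.congr e ?_
    refine nr_of (L := {1, 2}) (q := Fintype.card F) ?_ (dl_g2 h3 hK)
    intro s hs hs3 hst hsK hord P
    by_contra hP
    exact hord (H320.Cyc.ord_G2 (t := t) (MulEquiv.refl _) hs hs3 hst P hP)
  · rintro t K _ _ _ - ht ⟨F, _, _, _, h3, ⟨e⟩⟩
    have htf : Fact t.Prime := ⟨ht⟩
    obtain ⟨hsim, hK⟩ := simple_g2 h3
    refine CY.congr e ?_
    exact cy_of (dl_g2 h3 hK) (cl_g2 ht h3 hK)

end Cfsg.Agent.H542.Pi
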