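import Mathlib

/-!
# S4324: the orders of `G₂(q)` and `³D₄(q)` modulo a prime (helper542)

* `g2_arith` : `s ∣ |G₂(q)|`, `s ∤ q`, `ord_s(q) ∉ {1, 2}`: `s` divides `N = q² ± q + 1` and `|G₂(q)| = N c`,
  `c ≡ 6 [MOD s]`;
* `d4_arith` : `s ∣ |³D₄(q)|`, `s ∤ q`, `ord_s(q) ∉ {1, 2, 3, 6}`: `s` divides `N = q⁴ - q² + 1` and `|³D₄(q)| = N c`,
  `c ≡ 4 [MOD s]`.
-/

set_option autoImplicit false

namespace Cfsg.Agent.H542.Pi

theorem ord_mem {s n : ℕ} {a : ZMod s} (h : a ^ n = 1) (hn : n ≠ 0) : orderOf a ∈ n.divisors :=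
  Nat.mem_divisors.2 ⟨orderOf_dvd_of_pow_eq_one h, hn⟩

theorem no_five : ∀ a : ZMod 5, ¬ (a ^ 2 + a + 1 = 0 ∨ a ^ 2 - a + 1 = 0) := by decide

theorem g2_arith {q s : ℕ} (hs : s.Prime) (hs3 : 3 < s) (hq : 1 ≤ q) (hsq : ¬ s ∣ q)
    (h : s ∣ q ^ 6 * (q ^ 2 - 1) * (q ^ 6 - 1)) (ho : orderOf (q : ZMod s) ∉ ({1, 2} : Finset ℕ)) :
    ∃ N c : ℕ, ((N : ℤ) = 1 + (q : ℤ) + (q : ℤ) ^ 2 ∨ (N : ℤ) = 1 - (q : ℤ) + (q : ℤ) ^ 2) ∧ s ∣ N ∧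
      q ^ 6 * (q ^ 2 - 1) * (q ^ 6 - 1) = N * c ∧ c ≡ 6 [MOD s] ∧ 6 < s := by
  have hsf : Fact s.Prime := ⟨hs⟩
  obtain ⟨b, rfl⟩ : ∃ b, q = b + 1 := ⟨q - 1, by omega⟩
  have e2 : (b + 1) ^ 2 - 1 = b * (b + 2) := by
    have : (b + 1) ^ 2 = b * (b + 2) + 1 := by ring
    omega
  have e6 : (b + 1) ^ 6 - 1 = b * (b + 2) * (b ^ 2 + b + 1) * (b ^ 2 + 3 * b + 3) := by
    have : (b + 1) ^ 6 = b * (b + 2) * (b ^ 2 + b + 1) * (b ^ 2 + 3 * b + 3) + 1 := by ring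
    omega
  rw [e2, e6] at h ⊢
  set a : ZMod s := ((b + 1 : ℕ) : ZMod s) with ha
  have hb : (b : ZMod s) = a - 1 := by rw [ha]; push_cast; ring
  have ha0 : a ≠ 0 := by
    rw [ha, Ne, ZMod.natCast_eq_zero_iff]
    exact hsq
  have ha2 : a ^ 2 ≠ 1 := by
    intro h1
    apply ho
    have := ord_mem h1 two_ne_zero
    have e : (2 : ℕ).divisors = {1, 2} := by decide
    rwa [e] at this
  have hcases : a ^ 2 + a + 1 = 0 ∨ a ^ 2 - a + 1 = 0 := by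
    have h1 : (((b + 1) ^ 6 * (b * (b + 2)) * (b * (b + 2) * (b ^ 2 + b + 1) * (b ^ 2 + 3 * b + 3)) : ℕ) : ZMod s) = 0 :=
      (ZMod.natCast_eq_zero_iff _ _).2 h
    push_cast at h1
    rw [hb] at h1
    have h2 : a ^ 6 * (a ^ 2 - 1) ^ 2 * ((a ^ 2 + a + 1) * (a ^ 2 - a + 1)) = 0 := by
      rw [← h1]; ring
    rcases mul_eq_zero.1 h2 with h3 | h3
    · exfalso
      rcases mul_eq_zero.1 h3 with h4 | h4
      · exact ha0 (pow_eq_zero_iff (by norm_num) |>.1 h4)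
      · exact ha2 (sub_eq_zero.1 (pow_eq_zero_iff (by norm_num) |>.1 h4))
    · exact mul_eq_zero.1 h3
  have h5 : s ≠ 5 := by
    rintro rfl
    exact no_five a hcases
  have h6 : 6 < s := by
    have h4 : s ≠ 4 := by rintro rfl; exact absurd hs (by norm_num)
    have h6 : s ≠ 6 := by rintro rfl; exact absurd hs (by norm_num)
    omega
  rcases hcases with h1 | h1
  · refine ⟨b ^ 2 + 3 * b + 3, (b + 1) ^ 6 * (b * (b + 2)) * (b * (b + 2) * (b ^ 2 + b + 1)), Or.inl (by push_cast; ring),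
      ?_, by ring, ?_, h6⟩
    · rw [← ZMod.natCast_eq_zero_iff]
      push_cast
      rw [hb, ← h1]
      ring
    · rw [← ZMod.natCast_eq_natCast_iff]
      push_cast
      rw [hb]
      linear_combination (a ^ 10 - 2 * a ^ 9 + 4 * a ^ 7 - 5 * a ^ 6 + 6 * a ^ 4 - 6 * a ^ 3 + 6 * a - 6) * h1
  · refine ⟨b ^ 2 + b + 1, (b + 1) ^ 6 * (b * (b + 2)) * (b * (b + 2) * (b ^ 2 + 3 * b + 3)), Or.inr (by push_cast; ring),
      ?_, by ring, ?_, h6⟩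
    · rw [← ZMod.natCast_eq_zero_iff]
      push_cast
      rw [hb, ← h1]
      ring
    · rw [← ZMod.natCast_eq_natCast_iff]
      push_cast
      rw [hb]
      linear_combination (a ^ 10 + 2 * a ^ 9 - 4 * a ^ 7 - 5 * a ^ 6 + 6 * a ^ 4 + 6 * a ^ 3 - 6 * a - 6) * h1

theorem d4_arith {q s : ℕ} (hs : s.Prime) (hs3 : 3 < s) (hq : 1 ≤ q) (hsq : ¬ s ∣ q)
    (h : s ∣ q ^ 12 * (q ^ 2 - 1) * (q ^ 6 - 1) * (q ^ 8 + q ^ 4 + 1))
    (ho : orderOf (q : ZMod s) ∉ ({1, 2, 3, 6} : Finset ℕ)) :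
    ∃ N c : ℕ, (N : ℤ) = 1 - (q : ℤ) ^ 2 + (q : ℤ) ^ 4 ∧ s ∣ N ∧
      q ^ 12 * (q ^ 2 - 1) * (q ^ 6 - 1) * (q ^ 8 + q ^ 4 + 1) = N * c ∧ c ≡ 4 [MOD s] ∧ 4 < s := by
  have hsf : Fact s.Prime := ⟨hs⟩
  obtain ⟨b, rfl⟩ : ∃ b, q = b + 1 := ⟨q - 1, by omega⟩
  have e2 : (b + 1) ^ 2 - 1 = b * (b + 2) := by
    have : (b + 1) ^ 2 = b * (b + 2) + 1 := by ring
    omega
  have e6 : (b + 1) ^ 6 - 1 = b * (b + 2) * (b ^ 2 + b + 1) * (b ^ 2 + 3 * b + 3) := by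
    have : (b + 1) ^ 6 = b * (b + 2) * (b ^ 2 + b + 1) * (b ^ 2 + 3 * b + 3) + 1 := by ring
    omega
  rw [e2, e6] at h ⊢
  set a : ZMod s := ((b + 1 : ℕ) : ZMod s) with ha
  have hb : (b : ZMod s) = a - 1 := by rw [ha]; push_cast; ring
  have ha0 : a ≠ 0 := by
    rw [ha, Ne, ZMod.natCast_eq_zero_iff]
    exact hsq
  have ha6 : a ^ 6 ≠ 1 := by
    intro h1
    apply ho
    have := ord_mem h1 (by norm_num)
    have e : (6 : ℕ).divisors = {1, 2, 3, 6} := by decide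
    rwa [e] at this
  have h84 : a ^ 8 + a ^ 4 + 1 = 0 := by
    have h1 : (((b + 1) ^ 12 * (b * (b + 2)) * (b * (b + 2) * (b ^ 2 + b + 1) * (b ^ 2 + 3 * b + 3)) *
        ((b + 1) ^ 8 + (b + 1) ^ 4 + 1) : ℕ) : ZMod s) = 0 :=
      (ZMod.natCast_eq_zero_iff _ _).2 h
    push_cast at h1
    rw [hb] at h1
    have h2 : a ^ 12 * (a ^ 2 - 1) * (a ^ 6 - 1) * (a ^ 8 + a ^ 4 + 1) = 0 := by
      rw [← h1]; ring
    rcases mul_eq_zero.1 h2 with h3 | h3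
    · exfalso
      rcases mul_eq_zero.1 h3 with h4 | h4
      · rcases mul_eq_zero.1 h4 with h5 | h5
        · exact ha0 (pow_eq_zero_iff (by norm_num) |>.1 h5)
        · apply ha6
          have h6 := sub_eq_zero.1 h5
          calc a ^ 6 = (a ^ 2) ^ 3 := by ring
            _ = 1 := by rw [h6, one_pow]
      · exact ha6 (sub_eq_zero.1 h4)
    · exact h3
  have h12 : a ^ 6 + 1 = 0 := by
    have h1 : (a ^ 6 - 1) * (a ^ 6 + 1) = 0 := by linear_combination (a ^ 4 - 1) * h84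
    rcases mul_eq_zero.1 h1 with h2 | h2
    · exact absurd (sub_eq_zero.1 h2) ha6
    · exact h2
  have hN : a ^ 4 - a ^ 2 + 1 = 0 := by
    have h1 : (a ^ 2 + 1) * (a ^ 4 - a ^ 2 + 1) = 0 := by linear_combination h12
    rcases mul_eq_zero.1 h1 with h2 | h2
    · exfalso
      have h3 : (3 : ZMod s) = 0 := by linear_combination h84 - (a ^ 6 - a ^ 4 + 2 * a ^ 2 - 2) * h2
      have h4 : ((3 : ℕ) : ZMod s) = 0 := by exact_mod_cast h3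
      rw [ZMod.natCast_eq_zero_iff] at h4
      have := Nat.le_of_dvd (by norm_num) h4
      omega
    · exact h2
  have h4 : 4 < s := by
    have h4 : s ≠ 4 := by rintro rfl; exact absurd hs (by norm_num)
    omega
  refine ⟨b ^ 4 + 4 * b ^ 3 + 5 * b ^ 2 + 2 * b + 1, (b + 1) ^ 12 * (b * (b + 2)) *
    (b * (b + 2) * (b ^ 2 + b + 1) * (b ^ 2 + 3 * b + 3)) * ((b + 1) ^ 4 + (b + 1) ^ 2 + 1), by push_cast; ring,
    ?_, by ring, ?_, h4⟩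
  · rw [← ZMod.natCast_eq_zero_iff]
    push_cast
    rw [hb, ← hN]
    ring
  · rw [← ZMod.natCast_eq_natCast_iff]
    push_cast
    rw [hb]
    linear_combination (a ^ 20 + a ^ 18 - 3 * a ^ 14 - 3 * a ^ 12 + 4 * a ^ 8 + 4 * a ^ 6 - 4 * a ^ 2 - 4) * hN

end Cfsg.Agent.H542.Pi
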