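import Cfsg.Agent.H542.Pi.Fus
import Cfsg.Agent.H542.Pi.G2Cases
import Cfsg.Agent.H542.Pi.ArithGD
import Cfsg.Agent.H134.TD.Exc
import Cfsg.Agent.H176.Pi.Exc
import Cfsg.Agent.H326.PiC.Main
import Cfsg.Agent.S1059
import Cfsg.Agent.S1067

/-!
# S4324: the primes with cyclic Sylow subgroups in `G₂(q)` and `³D₄(q)` (helper542)

* `cl_g2` : `CL {1, 2} t q G₂(q)`; `cl_d4` : `CL {1, 2, 3, 6} t q ³D₄(q)`.
-/

set_option autoImplicit false

namespace Cfsg.Agent.H542.Pi

open Subgroup Cfsg Cfsg.Lie Cfsg.Agent.H216.Pi Cfsg.Agent.H176.Pi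
open Cfsg.Agent.H134.TD (TorAt tor_G2_3 tor_G2_6 torAt_of_exact)

theorem le_mm (r : ℕ) : 11 ≤ mm r := le_max_left _ _

theorem fus_of_torAt {K : Type*} [Group K] [Finite K] {s N c e : ℕ} (hs : s.Prime)
    (hcyc : ∀ P : Sylow s K, IsCyclic (P : Subgroup K)) (hT : TorAt K N s)
    (hc : Nat.card K = N * c) (hce : c ≡ e [MOD s]) (he0 : 0 < e) (hes : e < s) {y : K} (hy : orderOf y = s) :
    fus 1 y = e := by
  obtain ⟨T, h1, h2, h3⟩ := hT
  exact fus_eq hs hcyc h1 h3 (by rw [hc, h2]) hce he0 hes hy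

theorem cl_g2 {F : Type} [Field F] [Fintype F] {t : ℕ} (ht : t.Prime) [CharP F t] (h3 : 3 ≤ Fintype.card F)
    [IsSimpleGroup ↥(chevG2.group F)] (hK : ¬ IsMulCommutative ↥(chevG2.group F)) :
    CL {1, 2} t (Fintype.card F) ↥(chevG2.group F) := by
  intro s r x hs hr hr3 hrs hrK hst hsK hord hcyc hx hxs hxr hPC hFC
  have hF := le_mm r
  rcases G2P.cases_aut hx with ⟨g, rfl⟩ | h | h
  · -- inner automorphisms
    have hcard := Cfsg.Agent.S1059.result (F := F) rfl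
    have hsq : ¬ s ∣ Fintype.card F := by
      intro h
      obtain ⟨n, -, hn⟩ := FiniteField.card F t
      rw [hn] at h
      exact hst ((Nat.prime_dvd_prime_iff_eq hs ht).1 (hs.dvd_of_dvd_pow h))
    obtain ⟨N, c, hN, hsN, hNc, hc, hs6⟩ := g2_arith hs (by omega) (by omega) hsq (by rw [← hcard]; exact hsK) hord
    have hT : TorAt ↥(chevG2.group F) N s := by
      rcases hN with hN | hN
      · exact tor_G2_3 rfl hN hs hsN (by omega)
      · exact tor_G2_6 rfl hN hs hsN (by omega)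
    have hsf : Fact s.Prime := ⟨hs⟩
    obtain ⟨y, hy⟩ := exists_prime_orderOf_dvd_card' s hsK
    have hfus := fus_of_torAt hs hcyc hT (by rw [hcard, hNc]) hc (by norm_num) hs6 hy
    exact Cfsg.Agent.H326.PiC.false_of_fus hK hs hcyc hx hxs hy (m := mm r) (by rw [fus_conj, hfus]; omega) hFC
  · have hZ : center ↥(chevG2.group F) = ⊥ :=
      H955.PiG.center_bot ht (G2P.isLie F t (by rw [Nat.card_eq_fintype_card]; exact h3))
    exact H249.Pi.FldType.not_fc_of_all hs hsK hZ (fun z => (h z).mono (by omega)) hFC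
  · refine G2P.false_of_pol h3 (MulEquiv.refl _) (x := x) h hx hs ?_ hsK (by omega) hFC
    omega

theorem cl_d4 {F : Type} [Field F] [Fintype F] {t q : ℕ} (ht : t.Prime) [CharP F t] (hq : IsPrimePow q)
    (hF : Fintype.card F = q ^ 3) [IsSimpleGroup ↥(twistedD4 F q)] (hK : ¬ IsMulCommutative ↥(twistedD4 F q)) :
    CL {1, 2, 3, 6} t q ↥(twistedD4 F q) := by
  intro s r x hs hr hr3 hrs hrK hst hsK hord hcyc hx hxs hxr hPC hFC
  have hm := le_mm r
  have hcard := Cfsg.Agent.S1067.result hq hF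
  have hsq : ¬ s ∣ q := by
    intro h
    obtain ⟨n, -, hn⟩ := FiniteField.card F t
    rw [hn] at hF
    have h1 : s ∣ t ^ (n : ℕ) := by rw [hF]; exact h.trans (dvd_pow_self q three_ne_zero)
    exact hst ((Nat.prime_dvd_prime_iff_eq hs ht).1 (hs.dvd_of_dvd_pow h1))
  obtain ⟨N, c, hN, hsN, hNc, hc, hs4⟩ := d4_arith hs (by omega) hq.one_lt.le hsq (by rw [← hcard]; exact hsK) hord
  have hT : TorAt ↥(twistedD4 F q) N s := torAt_of_exact (H129.CycT.exact_tD4_12 hq hF hN) hs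
  have hsf : Fact s.Prime := ⟨hs⟩
  obtain ⟨y, hy⟩ := exists_prime_orderOf_dvd_card' s hsK
  have hfus := fus_of_torAt hs hcyc hT (by rw [hcard, hNc]) hc (by norm_num) hs4 hy
  exact Cfsg.Agent.H326.PiC.false_of_fus_two hK hs hcyc hx hy (m := mm r) (by rw [hfus]; omega) hFC

end Cfsg.Agent.H542.Pi
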