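import Cfsg.Agent.H208.Pi.Fun
import Cfsg.Agent.H326.PiY.Fus

/-!
# S4324: fusion in a cyclic Sylow subgroup by a congruence (helper542)

`K` finite, `s` a prime, the Sylow `s`-subgroups cyclic, `y` of order `s`.

* `card_fus_modEq` : the number of powers of `y` conjugate to `y` is congruent modulo `s` to `|K : C(y)|`;
* `card_fus_eq` : `T` self-centralizing on its elements of order `s`, `|K| = |T| c`, `c ≡ e [MOD s]`, `0 < e < s`: that
  number is `e`;
* `fus_eq` : `fus 1 y = e`; `fus_conj` : `fus (conj g) y = fus 1 y`.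
-/

set_option autoImplicit false

namespace Cfsg.Agent.H542.Pi

open Subgroup Cfsg.Agent.H216.Pi

variable {K : Type*} [Group K] [Finite K] {s : ℕ}

theorem card_fus_modEq (hs : s.Prime) (hcyc : ∀ P : Sylow s K, IsCyclic (P : Subgroup K)) {y : K}
    (hy : orderOf y = s) {c : ℕ} (hc : Nat.card K = Nat.card (centralizer ({y} : Set K)) * c) :
    c ≡ Nat.card {z : K // z ∈ zpowers y ∧ IsConj y z} [MOD s] := by
  classical
  have hsf : Fact s.Prime := ⟨hs⟩
  set A := MulAction.orbit (ConjAct K) y with hA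
  set G : Subgroup (ConjAct K) := zpowers (ConjAct.toConjAct y) with hG
  have hoy : orderOf (ConjAct.toConjAct y) = s := by
    rw [← hy]
    exact orderOf_injective (ConjAct.toConjAct (G := K)).toMonoidHom (ConjAct.toConjAct (G := K)).injective y
  have hfin : Finite (ConjAct K) := ‹Finite K›
  have hGp : IsPGroup s G := by
    refine IsPGroup.of_card (n := 1) ?_
    rw [pow_one, hG, Nat.card_zpowers, hoy]
  have hfA : Finite A := (Set.toFinite _).to_subtype
  have h1 := hGp.card_modEq_card_fixedPoints A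
  have h2 : Nat.card A = c := by
    have h3 := Subgroup.card_mul_index (MulAction.stabilizer (ConjAct K) y)
    rw [MulAction.index_stabilizer, ← Subgroup.nat_card_centralizer_nat_card_stabilizer] at h3
    have h4 : Nat.card (ConjAct K) = Nat.card K := rfl
    rw [h4, hc] at h3
    exact Nat.eq_of_mul_eq_mul_left Nat.card_pos h3
  have h3 : Nat.card (MulAction.fixedPoints G A) = Nat.card {z : K // z ∈ zpowers y ∧ IsConj y z} := by
    have hfix : ∀ a : A, a ∈ MulAction.fixedPoints G A ↔ Commute (a : K) y := by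
      intro a
      rw [MulAction.mem_fixedPoints]
      constructor
      · intro h
        have h4 := h ⟨ConjAct.toConjAct y, mem_zpowers _⟩
        have h5 : y * (a : K) * y⁻¹ = a := congrArg Subtype.val h4
        exact (mul_inv_eq_iff_eq_mul.1 h5).symm
      · rintro h ⟨g, k, rfl⟩
        apply Subtype.ext
        have h6 : (y ^ k) * (a : K) * (y ^ k)⁻¹ = a := by
          rw [(h.symm.zpow_left k).eq, mul_inv_cancel_right]
        exact h6
    refine Nat.card_congr
      { toFun := fun a => ⟨(a : A), ?_, ?_⟩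
        invFun := fun z => ⟨⟨z, ?_⟩, ?_⟩
        left_inv := fun a => rfl
        right_inv := fun z => rfl }
    · have h4 : Commute ((a : A) : K) y := (hfix _).1 a.2
      have h5 : IsConj ((a : A) : K) y := ConjAct.mem_orbit_conjAct.1 (a : A).2
      have h6 : orderOf ((a : A) : K) = s := by
        obtain ⟨g, hg⟩ := isConj_iff.1 h5
        have h8 := MulEquiv.orderOf_eq (MulAut.conj g) ((a : A) : K)
        rw [MulAut.conj_apply, hg, hy] at h8
        exact h8.symm
      have h7 := Cfsg.Agent.H208.Pi.zpowers_eq_of_commute hcyc hy h6 h4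
      rw [h7]
      exact mem_zpowers _
    · exact (ConjAct.mem_orbit_conjAct.1 (a : A).2).symm
    · exact ConjAct.mem_orbit_conjAct.2 z.2.2.symm
    · rw [hfix]
      obtain ⟨k, hk⟩ := z.2.1
      show Commute (z : K) y
      rw [← hk]
      exact (Commute.refl y).zpow_left k
  rw [h2, h3] at h1
  exact h1

theorem card_fus_pos {y : K} : 0 < Nat.card {z : K // z ∈ zpowers y ∧ IsConj y z} :=
  Nat.card_pos_iff.2 ⟨⟨⟨y, mem_zpowers y, IsConj.refl y⟩⟩, inferInstance⟩

theorem card_fus_lt (hs : s.Prime) {y : K} (hy : orderOf y = s) :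
    Nat.card {z : K // z ∈ zpowers y ∧ IsConj y z} < s := by
  have h1 : {z : K | z ∈ zpowers y ∧ IsConj y z}.ncard < (zpowers y : Set K).ncard := by
    refine Set.ncard_lt_ncard ⟨fun z hz => hz.1, fun h => ?_⟩ (Set.toFinite _)
    have h3 := (h (one_mem (zpowers y))).2
    rw [isConj_one_left] at h3
    rw [h3, orderOf_one] at hy
    exact hs.one_lt.ne hy
  have h2 : (zpowers y : Set K).ncard = s := by
    rw [← hy, ← Nat.card_zpowers]
    rfl
  rw [h2] at h1
  exact h1

omit [Finite K] in
/-- every element of order `s` has a conjugate in `T` -/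
theorem exists_conj_mem (hs : s.Prime) (T : Subgroup K) (hT : ¬ s ∣ T.index) {y : K} (hy : orderOf y = s) :
    ∃ g : K, g⁻¹ * y * g ∈ T := by
  have hsf : Fact s.Prime := ⟨hs⟩
  have hG : IsPGroup s (zpowers y) := by
    refine IsPGroup.of_card (n := 1) ?_
    rw [pow_one, Nat.card_zpowers, hy]
  obtain ⟨a, ha⟩ := hG.nonempty_fixed_point_of_prime_not_dvd_card (K ⧸ T) hT
  obtain ⟨g, rfl⟩ := QuotientGroup.mk_surjective a
  rw [MulAction.mem_fixedPoints] at ha
  refine ⟨g, ?_⟩
  have h1 : ((y * g : K) : K ⧸ T) = g := ha ⟨y, mem_zpowers y⟩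
  have h2 := QuotientGroup.eq.1 h1.symm
  rwa [← mul_assoc] at h2

omit [Finite K] in
theorem card_fus_conj (y g : K) : Nat.card {z : K // z ∈ zpowers (g⁻¹ * y * g) ∧ IsConj (g⁻¹ * y * g) z} =
    Nat.card {z : K // z ∈ zpowers y ∧ IsConj y z} := by
  have e1 : g⁻¹ * y * g = MulAut.conj g⁻¹ y := by simp
  rw [e1]
  symm
  refine Nat.card_congr ((MulAut.conj g⁻¹).toEquiv.subtypeEquiv fun z => and_congr ?_ ?_)
  · show z ∈ zpowers y ↔ MulAut.conj g⁻¹ z ∈ zpowers (MulAut.conj g⁻¹ y)
    constructor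
    · rintro ⟨k, rfl⟩
      exact ⟨k, (map_zpow (MulAut.conj g⁻¹) y k).symm⟩
    · rintro ⟨k, hk⟩
      refine ⟨k, (MulAut.conj g⁻¹).injective ?_⟩
      show MulAut.conj g⁻¹ (y ^ k) = _
      rw [map_zpow]
      exact hk
  · show IsConj y z ↔ IsConj (MulAut.conj g⁻¹ y) (MulAut.conj g⁻¹ z)
    have h1 : ∀ a : K, IsConj (MulAut.conj g⁻¹ a) a := fun a => isConj_iff.2 ⟨g, by
      rw [MulAut.conj_apply]; group⟩
    constructor
    · intro h
      exact ((h1 y).trans h).trans (h1 z).symm
    · intro h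
      exact ((h1 y).symm.trans h).trans (h1 z)

/-- **The number of fused powers.** -/
theorem card_fus_eq (hs : s.Prime) (hcyc : ∀ P : Sylow s K, IsCyclic (P : Subgroup K)) {T : Subgroup K}
    (hTc : IsCyclic T) (hT : ∀ y ∈ T, orderOf y = s → centralizer ({y} : Set K) ≤ T) {c e : ℕ}
    (hc : Nat.card K = Nat.card T * c) (hce : c ≡ e [MOD s]) (he0 : 0 < e) (hes : e < s) {y : K} (hy : orderOf y = s) :
    Nat.card {z : K // z ∈ zpowers y ∧ IsConj y z} = e := by
  have hi : T.index = c := by
    have h1 := T.card_mul_index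
    rw [hc] at h1
    exact Nat.eq_of_mul_eq_mul_left Nat.card_pos h1
  have hsc : ¬ s ∣ T.index := by
    rw [hi]
    intro h
    have h1 : e ≡ 0 [MOD s] := hce.symm.trans ((Nat.modEq_zero_iff_dvd).2 h)
    have h2 := (Nat.modEq_zero_iff_dvd).1 h1
    exact absurd (Nat.le_of_dvd he0 h2) (by omega)
  obtain ⟨g, hg⟩ := exists_conj_mem hs T hsc hy
  set z := g⁻¹ * y * g with hz
  have hzo : orderOf z = s := by
    rw [← hy, hz]
    have := MulEquiv.orderOf_eq (MulAut.conj g⁻¹) y
    simpa using this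
  have hC : centralizer ({z} : Set K) = T := by
    refine le_antisymm (hT z hg hzo) fun t ht => ?_
    rw [mem_centralizer_singleton_iff]
    have h1 : (⟨z, hg⟩ : T) * ⟨t, ht⟩ = ⟨t, ht⟩ * ⟨z, hg⟩ := by
      have := hTc.isMulCommutative
      exact this.is_comm.comm _ _
    exact (congrArg Subtype.val h1).symm
  have h1 := card_fus_modEq hs hcyc hzo (c := c) (by rw [hC, hc])
  rw [← card_fus_conj y g]
  have h2 := card_fus_lt hs hzo
  exact Nat.ModEq.eq_of_lt_of_lt (h1.symm.trans hce) h2 hes

theorem fus_eq (hs : s.Prime) (hcyc : ∀ P : Sylow s K, IsCyclic (P : Subgroup K)) {T : Subgroup K}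
    (hTc : IsCyclic T) (hT : ∀ y ∈ T, orderOf y = s → centralizer ({y} : Set K) ≤ T) {c e : ℕ}
    (hc : Nat.card K = Nat.card T * c) (hce : c ≡ e [MOD s]) (he0 : 0 < e) (hes : e < s) {y : K} (hy : orderOf y = s) :
    fus 1 y = e := by
  rw [Cfsg.Agent.H326.PiY.fus_one, card_fus_eq hs hcyc hTc hT hc hce he0 hes hy]

omit [Finite K] in
theorem fus_conj (g y : K) : fus (MulAut.conj g) y = fus 1 y := by
  have h1 : closure ({MulAut.conj g} ∪ Set.range (MulAut.conj : K → MulAut K)) =
      closure ({1} ∪ Set.range (MulAut.conj : K → MulAut K)) := by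
    apply le_antisymm
    · rw [closure_le]
      rintro _ (h | ⟨k, rfl⟩)
      · rw [Set.mem_singleton_iff] at h
        rw [h]
        exact subset_closure (Or.inr ⟨g, rfl⟩)
      · exact subset_closure (Or.inr ⟨k, rfl⟩)
    · rw [closure_le]
      rintro _ (h | ⟨k, rfl⟩)
      · rw [Set.mem_singleton_iff] at h
        rw [h]
        exact one_mem _
      · exact subset_closure (Or.inr ⟨k, rfl⟩)
  unfold fus
  rw [h1]

end Cfsg.Agent.H542.Pi
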