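import Cfsg.Agent.H542.Pi.G2Pol
import Cfsg.Agent.H542.Pi.G2Three

/-!
# The polarities of `G₂(q)` (helper542, S4324)

* `false_of_pol` : an automorphism of `G₂(q)` of prime order interchanging the nodes of the diagram does not satisfy
  `FC s m x`, `m ≥ 4`, `s ≠ 3`.
-/

set_option autoImplicit false

namespace Cfsg.Agent.H542.Pi.G2P

open Cfsg Cfsg.Lie Cfsg.Agent.H216.Pi
open Cfsg.Agent.H69.OutGF (flip2 flip2_ne)

/-- `G₂(3)` -/
theorem false_of_polarity_three {F : Type} [Field F] [Fintype F] (h3 : Fintype.card F = 3) [IsSimpleGroup (K F)]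
    {x : MulAut (K F)} (hx : Ty chevG2 F x flip2) (hxp : (orderOf x).Prime) {s m : ℕ} (hs : s.Prime) (hst : s ≠ 3)
    (hsK : s ∣ Nat.card (K F)) (hm : 4 ≤ m) (hF : FC s m x) : False := by
  have hx2 := orderOf_eq hx hxp
  obtain ⟨-, β₀, -, hβ₀⟩ := id hx
  have hch := charP (by rw [Nat.card_eq_fintype_card]; omega) hβ₀
  have hL : IsLieTypeChar 3 (K F) := isLie F 3 (by rw [Nat.card_eq_fintype_card]; omega)
  obtain ⟨b, hb⟩ := G23.exists_comm_seven h3 (MulEquiv.refl (K F)) hx2 (fun g hg => by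
    have h1 := hx.unique hD (hg ▸ Ty.conj g)
    exact flip2_ne h1)
  have hz : orderOf (b * x b⁻¹) = 7 := by
    have h1 : b * x b⁻¹ = (x b * b⁻¹)⁻¹ := by rw [map_inv, mul_inv_rev, inv_inv]
    rw [h1, orderOf_inv, hb]
  refine H955.PiG.false_of_regular Nat.prime_three hL hs hsK (InC.commutator x b) (fun hd => ?_) hm
    (fun h1 => absurd h1 hst) hF
  have h2 := hd.trans (G23.card_centralizer h3 (MulEquiv.refl (K F)) hz)
  revert h2
  norm_num

/-- **The polarities of `G₂(q)`.** -/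
theorem false_of_pol {G : Type*} [Group G] [Finite G] [IsSimpleGroup G] {F : Type} [Field F] [Fintype F]
    (h3 : 3 ≤ Fintype.card F) (e : G ≃* K F) {x : MulAut G} (hx : Ty chevG2 F (H459.Rad.tr e x) flip2)
    (hxp : (orderOf x).Prime) {s m : ℕ} (hs : s.Prime) (hst : s ≠ 3) (hsK : s ∣ Nat.card G) (hm : 4 ≤ m)
    (hF : FC s m x) : False := by
  have hsim : IsSimpleGroup (K F) := (MulEquiv.isSimpleGroup_congr e).1 inferInstance
  have hF' := hF.tr e
  have hxp' : (orderOf (H459.Rad.tr e x)).Prime := by rw [H459.Rad.orderOf_tr]; exact hxp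
  have hsK' : s ∣ Nat.card (K F) := by rw [← Nat.card_congr e.toEquiv]; exact hsK
  rcases Nat.eq_or_lt_of_le h3 with h | h
  · exact false_of_polarity_three h.symm hx hxp' hs hst hsK' hm hF'
  · exact false_of_polarity (by rw [Nat.card_eq_fintype_card]; exact h) hx hxp' hs hst hsK' hm hF'

end Cfsg.Agent.H542.Pi.G2P
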