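import Cfsg.Agent.BpExc.TorCent

/-!
# Regular elements of the torus of a root group datum (helper542, S4324)

* `not_dvd_of_regular` : if no root is trivial on `x ∈ T` then `p ∤ |C(x)|`.
-/

set_option autoImplicit false
set_option linter.unusedSectionVars false

namespace Cfsg.Agent.H542.Pi

open CoxeterSystem Cfsg.Agent.ChevalleyStructure.CoxeterGeom Cfsg.Agent.Tits.Roots Cfsg.Agent.Tits.Core
  Cfsg.Agent.Nodes Cfsg.Agent.Nodes.Reps Cfsg.Agent.Nodes.BNOf Cfsg.Agent.Nodes.NormalForm Cfsg.Agent.Nodes.Bruhat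
  Cfsg.Agent.KFacts.RgdField Cfsg.Agent.BpExc.TorCent

variable {I W Y : Type*} [Fintype I] [DecidableEq I] [Group W] [Group Y] {M : CoxeterMatrix I}
  {cs : CoxeterSystem M W} {A : I → I → ℤ} {h : IsCartan M A} {p : ℕ} {T : Subgroup Y} {n : I → Y}
  {X : (I → ℤ) → Subgroup Y} {F : Type*} [Field F] {xx : (I → ℤ) → F → Y} {χ : (I → ℤ) → Y → F}

/-- An element of order `p` does not centralise a regular element of the torus. -/
theorem eq_one_of_regular [Finite W] (hp : p.Prime) [CharP F p] (R : RGD cs h p T n X)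
    (C : Coords cs h T n X xx χ) {x : Y} (hx : x ∈ T) (hTc : ∀ s ∈ T, ∀ t ∈ T, s * t = t * s)
    (hA : ChAdd cs h T χ) (hS : Sx cs h χ x = ∅) {g : Y} (hg : g ∈ GG cs h T X)
    (hc : g ∈ Subgroup.centralizer {x}) (hgp : g ^ p = 1) : g = 1 := by
  have hTp : ∀ t ∈ T, t ^ p = 1 → t = 1 := by
    intro t ht htp
    have h1 : orderOf (⟨t, ht⟩ : T) ∣ Nat.card T := orderOf_dvd_natCard _
    have h2 : orderOf (⟨t, ht⟩ : T) ∣ p := orderOf_dvd_of_pow_eq_one (Subtype.ext htp)
    have h3 := Nat.eq_one_of_dvd_coprimes R.tcop h1 h2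
    rw [orderOf_eq_one_iff] at h3
    exact congrArg Subtype.val h3
  obtain ⟨w, hw, k, hkc, hk, hm⟩ := exists_form R C hx hTc hA hg hc
  have hMM : MM cs h X χ x = ⊥ := by
    unfold MM
    rw [hS]
    rw [eq_bot_iff]
    exact RGD.Sup_le fun a ha => absurd ha (Set.notMem_empty a)
  rw [hMM, bot_sup_eq] at hm
  have hgk : Rp cs R.nsys w g := by
    have h1 := hk.mul_mem_right hm
    rwa [mul_inv_cancel_left] at h1
  have hpow : ∀ j : ℕ, Rp cs R.nsys (w ^ j) (g ^ j) := by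
    intro j
    induction j with
    | zero => rw [pow_zero, pow_zero]; exact rp_one
    | succ j ih => rw [pow_succ, pow_succ]; exact ih.mul hgk
  have hwp : w ^ p = 1 := by
    have h1 := hpow p
    rw [hgp] at h1
    exact R.eq_one_of_mem_B h1 (one_mem _)
  by_cases hw1 : w = 1
  · rw [hw1] at hgk
    exact hTp g hgk.mem_of_one hgp
  exfalso
  obtain ⟨a, ha, hsum⟩ := Cfsg.Agent.BpExc.Fix.exists_root_sum_eq_zero (cs := cs) (h := h) hw1 hp.pos hwp
  obtain ⟨φ, h0, hadd, hφ⟩ := hA x hx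
  have hinv : ∀ j : ℕ, φ (rep cs h (w ^ j) a) = φ a := by
    intro j
    induction j with
    | zero => rw [pow_zero, map_one, Module.End.one_apply]
    | succ j ih =>
      have h1 : rep cs h (w ^ (j + 1)) a = rep cs h w (rep cs h (w ^ j) a) := by
        rw [pow_succ', rep_mul_apply]
      have hr : IsRoot cs h (rep cs h (w ^ j) a) := ha.act _
      rw [h1, ← hφ _ (hr.act w), (mem_PP.1 hw).1 _ hr, hφ _ hr, ih]
  have hprod : ∀ m : ℕ, φ (∑ i ∈ Finset.range m, rep cs h (w ^ i) a) = φ a ^ m := by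
    intro m
    induction m with
    | zero => rw [Finset.sum_range_zero, h0, pow_zero]
    | succ m ih => rw [Finset.sum_range_succ, hadd, ih, hinv, pow_succ]
  have h1 : φ a ^ p = 1 := by rw [← hprod, hsum, h0]
  have h2 : φ a = 1 := by
    have : Fact p.Prime := ⟨hp⟩
    have h3 : (φ a - 1) ^ p = 0 := by rw [sub_pow_char, h1, one_pow, sub_self]
    exact sub_eq_zero.1 (pow_eq_zero_iff hp.ne_zero |>.1 h3)
  have h3 : a ∈ Sx cs h χ x := ⟨ha, by rw [hφ a ha, h2]⟩
  rw [hS] at h3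
  exact Set.notMem_empty a h3

/-- **Regular elements of the torus.** -/
theorem not_dvd_of_regular [Finite W] [Finite Y] (hp : p.Prime) [CharP F p] (R : RGD cs h p T n X)
    (C : Coords cs h T n X xx χ) {x : Y} (hx : x ∈ T) (hTc : ∀ s ∈ T, ∀ t ∈ T, s * t = t * s)
    (hA : ChAdd cs h T χ) (hS : Sx cs h χ x = ∅) (hG : GG cs h T X = ⊤) :
    ¬ p ∣ Nat.card (Subgroup.centralizer ({x} : Set Y)) := by
  intro hd
  have : Fact p.Prime := ⟨hp⟩
  obtain ⟨g, hg⟩ := exists_prime_orderOf_dvd_card' p hd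
  have h1 : (g : Y) ^ p = 1 := by
    rw [← SubmonoidClass.coe_pow, ← hg, pow_orderOf_eq_one, OneMemClass.coe_one]
  have h2 := eq_one_of_regular hp R C hx hTc hA hS (hG ▸ Subgroup.mem_top _) g.2 h1
  have h3 : g = 1 := Subtype.ext h2
  rw [h3, orderOf_one] at hg
  exact hp.one_lt.ne hg

end Cfsg.Agent.H542.Pi
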