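import Cfsg.Agent.H70.OutCount

/-!
# The permutation of the nodes of the diagram induced by an automorphism of a Chevalley group (helper542, S4324)

`Ty D F x π` : `x = conj g * β`, `β` maps `X_{±p_i}` onto `X_{±p_{π i}}`; `exists_ty`, `Ty.unique`, `Ty.mul`, `Ty.pow`,
`Ty.inv`, `Ty.conj`; `Ty.eq_one_of_order` : `x` of odd prime order has type `1` if the types have order at most two.
-/

set_option autoImplicit false

namespace Cfsg.Agent.H542.Pi

open scoped Pointwise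
open Cfsg Cfsg.Lie Cfsg.Agent.ChevalleyStructure Cfsg.Agent.ChevalleyStructure.Elts
open Cfsg.Agent.H70.AutFix Cfsg.Agent.H70.ChevFix Cfsg.Agent.H70.ChevField Cfsg.Agent.H70.OutCount
open Cfsg.Agent.Schreier.ChevLocal Cfsg.Agent.ChevalleyStructure.NConj Cfsg.Agent.ChevalleyStructure.BNChev Cfsg.Agent.S1042 Cfsg.Agent.H70.ChevTab Cfsg.Agent.H70.PermFix

universe u

variable {D : ChevalleyDatum} {F : Type u} [Field F]

theorem mul_conj {G : Type*} [Group G] (φ : MulAut G) (s : G) : φ * MulAut.conj s = MulAut.conj (φ s) * φ := by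
  ext g
  show φ (s * g * s⁻¹) = φ s * φ g * (φ s)⁻¹
  rw [map_mul, map_mul, map_inv]

/-- the automorphism `x` induces the permutation `π` of the nodes -/
def Ty (D : ChevalleyDatum) (F : Type u) [Field F] (x : MulAut ↥(D.group F)) (π : Equiv.Perm (Fin D.rank)) : Prop :=
  ∃ (g : ↥(D.group F)) (β : MulAut ↥(D.group F)), x = MulAut.conj g * β ∧ Perm D F β π

theorem exists_ty [Finite F] (hD : InList D) (x : MulAut ↥(D.group F)) : ∃ π, Ty D F x π := by
  obtain ⟨g, π, -, -, h1, h2⟩ := exists_conj_perm (F := F) hD x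
  exact ⟨π, g⁻¹, MulAut.conj g * x, by rw [map_inv, inv_mul_cancel_left], h1, h2⟩

theorem Ty.mul {x y : MulAut ↥(D.group F)} {π ρ : Equiv.Perm (Fin D.rank)} (hx : Ty D F x π) (hy : Ty D F y ρ) :
    Ty D F (x * y) (π * ρ) := by
  obtain ⟨g, β, rfl, h1⟩ := hx
  obtain ⟨h, γ, rfl, h2⟩ := hy
  refine ⟨g * β h, β * γ, ?_, h1.mul h2⟩
  rw [map_mul, mul_assoc, mul_assoc, ← mul_assoc β, mul_conj, mul_assoc]

theorem Ty.conj (h : ↥(D.group F)) : Ty D F (MulAut.conj h) 1 := ⟨h, 1, (mul_one _).symm, Perm.one⟩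

theorem Ty.one : Ty D F 1 1 := ⟨1, 1, by rw [map_one, mul_one], Perm.one⟩

theorem Ty.inv {x : MulAut ↥(D.group F)} {π : Equiv.Perm (Fin D.rank)} (hx : Ty D F x π) : Ty D F x⁻¹ π⁻¹ := by
  obtain ⟨g, β, rfl, h1⟩ := hx
  refine ⟨β⁻¹ g⁻¹, β⁻¹, ?_, h1.inv⟩
  rw [mul_inv_rev, ← map_inv, mul_conj]

theorem Ty.pow {x : MulAut ↥(D.group F)} {π : Equiv.Perm (Fin D.rank)} (hx : Ty D F x π) (n : ℕ) :
    Ty D F (x ^ n) (π ^ n) := by
  induction n with
  | zero => rw [pow_zero, pow_zero]; exact Ty.one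
  | succ n ih => rw [pow_succ, pow_succ]; exact ih.mul hx

/-- an inner automorphism permuting the fundamental root groups is the conjugation with an element of the torus -/
theorem perm_conj [Finite F] (hD : InList D) {h : ↥(D.group F)} {π : Equiv.Perm (Fin D.rank)}
    (hp : Perm D F (MulAut.conj h) π) : π = 1 ∧ h ∈ HH D F := by
  have h1 : h ∈ HH D F := by
    rw [← normalizer_inf hD, Subgroup.mem_inf, mem_normalizer_iff_smul, mem_normalizer_iff_smul]
    exact ⟨Perm.smul_UU hD hp, Perm.smul_VN hD hp⟩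
  refine ⟨Perm.unique hD hp ?_, h1⟩
  exact ⟨fun i => conj_XX hD h1 (simple_lt hD i.2), fun i => conj_XX hD h1 (neg_simple_lt hD i.2)⟩

/-- `β` normalises the torus -/
theorem perm_T [Finite F] (hD : InList D) {β : MulAut ↥(D.group F)} {π : Equiv.Perm (Fin D.rank)}
    (hβ : Perm D F β π) {y : ↥(D.group F)} (hy : y ∈ HH D F) : β y ∈ HH D F := by
  rw [← normalizer_inf hD] at hy ⊢
  have h1 : β y ∈ β • Subgroup.normalizer ((UU D F : Subgroup ↥(D.group F)) : Set ↥(D.group F)) :=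
    (apply_mem_smul_iff _ _ _).2 hy.1
  have h2 : β y ∈ β • Subgroup.normalizer ((VN D F : Subgroup ↥(D.group F)) : Set ↥(D.group F)) :=
    (apply_mem_smul_iff _ _ _).2 hy.2
  rw [smul_normalizer, Perm.smul_UU hD hβ] at h1
  rw [smul_normalizer, Perm.smul_VN hD hβ] at h2
  exact ⟨h1, h2⟩

theorem Ty.unique [Finite F] (hD : InList D) {x : MulAut ↥(D.group F)} {π ρ : Equiv.Perm (Fin D.rank)}
    (h1 : Ty D F x π) (h2 : Ty D F x ρ) : π = ρ := by
  obtain ⟨g, β, rfl, hβ⟩ := h1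
  obtain ⟨h, γ, e, hγ⟩ := h2
  have h3 : MulAut.conj (h⁻¹ * g) = γ * β⁻¹ := by
    rw [map_mul, map_inv, inv_mul_eq_iff_eq_mul, ← mul_assoc, ← e, mul_inv_cancel_right]
  have h4 : Perm D F (MulAut.conj (h⁻¹ * g)) (ρ * π⁻¹) := by
    rw [h3]
    exact hγ.mul hβ.inv
  exact (mul_inv_eq_one.1 (perm_conj hD h4).1).symm

/-- the prime order of an automorphism of nontrivial type is the order of the type -/
theorem Ty.orderOf_eq [Finite F] (hD : InList D) {x : MulAut ↥(D.group F)} {π : Equiv.Perm (Fin D.rank)}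
    (hx : Ty D F x π) (hp : (orderOf x).Prime) (hπ : π ≠ 1) : orderOf π = orderOf x := by
  have h1 : π ^ orderOf x = 1 := by
    have h2 := hx.pow (orderOf x)
    rw [pow_orderOf_eq_one] at h2
    exact h2.unique hD Ty.one
  have h3 : Fact (orderOf x).Prime := ⟨hp⟩
  exact orderOf_eq_prime h1 hπ

end Cfsg.Agent.H542.Pi
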